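import Groth.Agent.KoszScaleLib.Swap
import Groth.Agent.KoszLib.Top
import Mathlib.Data.Fintype.BigOperators

/-!
Koszul homology of a sequence enlarged by elements of its ideal.
-/

set_option autoImplicit false
universe u

noncomputable section

open CategoryTheory CategoryTheory.Limits HomologicalComplex
open CochainComplex (mappingCone)
open CochainComplex.HomComplex

namespace Groth.Agent.KoszScale

variable {A : Type u} [CommRing A]

theorem koszul_eq : ∀ l : List A, Koszul.koszul A l = CohIII.koszulCx (ModuleCat.of A A) l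
  | [] => rfl
  | f :: l => by
    show mappingCone (f • 𝟙 (Koszul.koszul A l)) = mappingCone (f • 𝟙 (CohIII.koszulCx (ModuleCat.of A A) l))
    rw [koszul_eq l]

theorem exists_homotopy_T (l : List A) (M : ModuleCat.{u} A) {y : A} (hy : y ∈ Ideal.span {a | a ∈ l}) :
    Nonempty (Homotopy (y • 𝟙 (KoszChiLib.T l M)) 0) := by
  obtain ⟨h⟩ := KoszLib.nonempty_homotopy (M := ModuleCat.of A A) l hy
  rw [← koszul_eq] at h
  exact ⟨((Homotopy.ofEq (KoszChiLib.map_smul_id_T y l M).symm).trans
    ((MonoidalCategory.tensorRight M).mapHomotopy h)).trans (Homotopy.ofEq (Functor.map_zero _ _ _))⟩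

theorem homology_cons_iso (l : List A) (M : ModuleCat.{u} A) {y : A} (hy : y ∈ Ideal.span {a | a ∈ l}) (i : ℤ) :
    Nonempty (KoszChiLib.H (y :: l) M i ≃ₗ[A] KoszChiLib.H l M i × KoszChiLib.H l M (i + 1)) := by
  obtain ⟨H⟩ := exists_homotopy_T l M hy
  set C := KoszChiLib.T l M
  set φ := y • 𝟙 C with hφ
  let e := ((HomologicalComplex.homologyFunctor (ModuleCat.{u} A) (ComplexShape.up ℤ) i).mapIso
    (KoszChiLib.coneIso y l M)).toLinearEquiv
  have hz : ∀ n, HomologicalComplex.homologyMap φ n = 0 := fun n => by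
    rw [H.homologyMap_eq, HomologicalComplex.homologyMap_zero]
  let r : mappingCone φ ⟶ C := mappingCone.desc φ (Cochain.ofHomotopy H) (𝟙 C)
    (by rw [δ_ofHomotopy, Category.comp_id, Cochain.ofHom_zero, sub_zero])
  obtain ⟨g, h, h1, h2, h3⟩ : ∃ (g : C.homology i →ₗ[A] (mappingCone φ).homology i)
      (h : (mappingCone φ).homology i →ₗ[A] C.homology (i + 1)),
      g = (HomologicalComplex.homologyMap (mappingCone.inr φ) i).hom ∧ Function.Exact g h ∧
        Function.Exact h (HomologicalComplex.homologyMap φ (i + 1)).hom := by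
    let e' := LocCohLib.shiftHomologyIso C (1 : ℤ) i (i + 1) (by ring)
    obtain ⟨g', h', k1, k2, k3⟩ := KoszChiLib.cone_exact φ i
    exact ⟨_, (HomologicalComplex.homologyMap (LocCohLib.coneδ φ) i ≫ e'.hom).hom, rfl,
      ((CategoryTheory.ShortComplex.ShortExact.moduleCat_exact_iff_function_exact _).1
        (LocCohLib.exact_δ φ i)).comp_injective (⇑e'.toLinearEquiv) e'.toLinearEquiv.injective
          (map_zero e'.toLinearEquiv), by
      intro w
      refine iff_of_true (by rw [hz]; rfl) ?_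
      obtain ⟨z, rfl⟩ := e'.toLinearEquiv.surjective w
      let T₂ := (CochainComplex.mappingCone.triangle φ).rotate.rotate
      have h4 := (CategoryTheory.ShortComplex.ShortExact.moduleCat_exact_iff_function_exact _).1
        (LocCohLib.exact_of_dist T₂
          (LocCohLib.rotate_dist _ (LocCohLib.rotate_dist _ (LocCohLib.cone_dist φ))) i)
      obtain ⟨v, hv⟩ := (h4 z).1 (by
        show (HomologicalComplex.homologyMap T₂.mor₂ i).hom z = 0
        rw [show T₂.mor₂ = -((shiftFunctor (CochainComplex (ModuleCat.{u} A) ℤ) (1 : ℤ)).map φ) from rfl]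
        erw [HomologicalComplex.homologyMap_neg]
        show -(_ : _) = (0 : _)
        rw [neg_eq_zero]
        apply e'.toLinearEquiv.injective
        refine Eq.trans ?_ (map_zero e'.toLinearEquiv).symm
        have hn := ConcreteCategory.congr_hom (LocCohLib.shiftHomologyIso_naturality φ (1 : ℤ) i (i + 1) (by ring)) z
        simp only [ModuleCat.comp_apply] at hn
        rw [hz] at hn
        exact hn)
      exact ⟨v, congrArg e'.hom hv⟩⟩
  let r' : (mappingCone φ).homology i →ₗ[A] C.homology i := (HomologicalComplex.homologyMap r i).hom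
  have hr : ∀ x, r' (g x) = x := fun x => by
    have := ConcreteCategory.congr_hom (show HomologicalComplex.homologyMap (mappingCone.inr φ) i ≫
      HomologicalComplex.homologyMap r i = 𝟙 _ by
        rw [← HomologicalComplex.homologyMap_comp, mappingCone.inr_desc, HomologicalComplex.homologyMap_id]) x
    rw [h1]
    exact this
  refine ⟨e.trans (LinearEquiv.ofBijective (r'.prod h) ⟨?_, ?_⟩)⟩
  · rw [← LinearMap.ker_eq_bot, eq_bot_iff]
    intro x hx
    obtain ⟨hx1, hx2⟩ : r' x = 0 ∧ h x = 0 := Prod.mk.inj hx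
    obtain ⟨w, rfl⟩ := (h2 x).1 hx2
    rw [hr] at hx1
    simp [hx1]
  · rintro ⟨a, b⟩
    obtain ⟨v, rfl⟩ : b ∈ Set.range h := (h3 b).1 (by rw [hz]; rfl)
    refine ⟨v + g (a - r' v), Prod.ext ?_ ?_⟩
    · show r' (v + g (a - r' v)) = a
      rw [map_add, hr]; abel
    · show h (v + g (a - r' v)) = h v
      rw [map_add, h2.apply_apply_eq_zero, add_zero]

/-- Index set for the summands. -/
def I : ℕ → Type
  | 0 => PUnit
  | r + 1 => I r ⊕ I r

/-- The degree of an index. -/
def dg : ∀ {r : ℕ}, I r → ℕ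
  | 0, _ => 0
  | _ + 1, Sum.inl s => dg s
  | _ + 1, Sum.inr s => dg s + 1

instance : ∀ r, Fintype (I r)
  | 0 => inferInstanceAs (Fintype PUnit)
  | r + 1 => @instFintypeSum _ _ (instFintypeI r) (instFintypeI r)

theorem card_dg : ∀ (r j : ℕ), Nat.card {s : I r // dg s = j} = r.choose j
  | 0, 0 => by
    haveI : Unique {s : I 0 // dg s = 0} := ⟨⟨⟨PUnit.unit, rfl⟩⟩, fun ⟨⟨⟩, _⟩ => rfl⟩
    simp
  | 0, j + 1 => by
    haveI : IsEmpty {s : I 0 // dg s = j + 1} := ⟨fun ⟨s, hs⟩ => by simp [dg] at hs⟩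
    simp
  | r + 1, j => by
    show Nat.card {s : I r ⊕ I r // dg (r := r + 1) s = j} = _
    rw [Nat.card_congr (Equiv.subtypeSum (α := I r) (β := I r) (p := fun s => dg (r := r + 1) s = j)), Nat.card_sum]
    cases j with
    | zero =>
      haveI : IsEmpty {s : I r // dg (r := r + 1) (Sum.inr s) = 0} := ⟨fun ⟨s, hs⟩ => by simp [dg] at hs⟩
      rw [Nat.card_of_isEmpty (α := {s : I r // dg (r := r + 1) (Sum.inr s) = 0}), add_zero, Nat.choose_zero_right]
      exact (card_dg r 0).trans (Nat.choose_zero_right r)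
    | succ j =>
      rw [Nat.choose_succ_succ', add_comm, ← card_dg r j, ← card_dg r (j + 1)]
      refine congrArg₂ (· + ·) ?_ rfl
      exact Nat.card_congr (Equiv.subtypeEquivRight fun s => by simp [dg])

theorem dg_le : ∀ {r : ℕ} (s : I r), dg s ≤ r
  | 0, _ => le_rfl
  | _ + 1, Sum.inl s => (dg_le s).trans (Nat.le_succ _)
  | _ + 1, Sum.inr s => Nat.succ_le_succ (dg_le s)

/-- Transport of homology along an equality of degrees. -/
def hcast (l : List A) (M : ModuleCat.{u} A) {a b : ℤ} (h : a = b) :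
    KoszChiLib.H l M a ≃ₗ[A] KoszChiLib.H l M b := by subst h; exact LinearEquiv.refl A _

theorem exists_iterate (xs : List A) (M : ModuleCat.{u} A) : ∀ ys : List A,
    (∀ y ∈ ys, y ∈ Ideal.span {a | a ∈ xs}) → ∀ m : ℤ,
      Nonempty (KoszChiLib.H (ys ++ xs) M m ≃ₗ[A] ((s : I ys.length) → KoszChiLib.H xs M (m + (dg s : ℤ))))
  | [], _, m => ⟨(hcast xs M (show m = m + ((dg (r := 0) PUnit.unit : ℕ) : ℤ) by simp [dg])).trans
      (LinearEquiv.piUnique A (fun s : PUnit.{1} => KoszChiLib.H xs M (m + ((dg (r := 0) s : ℕ) : ℤ)))).symm⟩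
  | y :: ys, hy, m => by
    have hy' : ∀ z ∈ ys, z ∈ Ideal.span {a | a ∈ xs} := fun z hz => hy z (List.mem_cons_of_mem _ hz)
    obtain ⟨e₀⟩ := homology_cons_iso (ys ++ xs) M
      (Ideal.span_mono (fun a (ha : a ∈ xs) => List.mem_append_right ys ha) (hy y List.mem_cons_self)) m
    obtain ⟨e₁⟩ := exists_iterate xs M ys hy' m
    obtain ⟨e₂⟩ := exists_iterate xs M ys hy' (m + 1)
    exact ⟨(e₀.trans (e₁.prodCongr (e₂.trans (LinearEquiv.piCongrRight fun s =>
      hcast xs M (show m + 1 + ((dg s : ℕ) : ℤ) = m + ((dg (r := ys.length + 1) (Sum.inr s) : ℕ) : ℤ) by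
        simp [dg]; ring))))).trans
      (LinearEquiv.sumPiEquivProdPi A (I ys.length) (I ys.length)
        (fun s => KoszChiLib.H xs M (m + ((dg (r := ys.length + 1) s : ℕ) : ℤ)))).symm⟩

theorem exists_append_iso (M : ModuleCat.{u} A) (xs ys : List A) (hy : ∀ y ∈ ys, y ∈ Ideal.span {a | a ∈ xs}) (m : ℤ) :
    Nonempty ((DRing.tensorCx (Koszul.koszul A (xs ++ ys)) M).homology m ≅
      ModuleCat.of A ((j : Fin (ys.length + 1)) → Fin (ys.length.choose j) →
        (DRing.tensorCx (Koszul.koszul A xs) M).homology (m + j))) := by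
  obtain ⟨e⟩ := nonempty_perm (List.perm_append_comm (l₁ := xs) (l₂ := ys))
  obtain ⟨e₁⟩ := exists_iterate xs M ys hy m
  let r := ys.length
  let f : ∀ j : Fin (r + 1), Fin (r.choose j) ≃ {s : I r // dg s = (j : ℕ)} := fun j =>
    (Finite.equivFinOfCardEq (card_dg r j)).symm
  let F : ((s : I r) → KoszChiLib.H xs M (m + (dg s : ℤ))) →ₗ[A]
      ((j : Fin (r + 1)) → Fin (r.choose j) → KoszChiLib.H xs M (m + j)) :=
    LinearMap.pi fun j => LinearMap.pi fun i =>
      (hcast xs M (by rw [(f j i).2])).toLinearMap ∘ₗ LinearMap.proj (f j i).1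
  have hF : Function.Bijective F := by
    constructor
    · intro v w hvw
      funext s
      have h1 := congrFun (congrFun hvw ⟨dg s, Nat.lt_succ_of_le (dg_le s)⟩)
        ((f ⟨dg s, Nat.lt_succ_of_le (dg_le s)⟩).symm ⟨s, rfl⟩)
      have key : ∀ (t : {t : I r // dg t = dg s}) (ht : t.1 = s) (h : m + (dg t.1 : ℤ) = m + (dg s : ℤ)),
          hcast xs M h (v t.1) = hcast xs M h (w t.1) → v s = w s := by
        rintro ⟨t, _⟩ ht h hh
        obtain rfl : t = s := ht
        exact (hcast xs M h).injective hh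
      exact key _ (congrArg Subtype.val ((f ⟨dg s, Nat.lt_succ_of_le (dg_le s)⟩).apply_symm_apply ⟨s, rfl⟩)) _ h1
    · intro v
      refine ⟨fun s => v ⟨dg s, Nat.lt_succ_of_le (dg_le s)⟩ ((f ⟨dg s, Nat.lt_succ_of_le (dg_le s)⟩).symm ⟨s, rfl⟩), ?_⟩
      funext j i
      have key : ∀ (j : Fin (r + 1)) (t : {t : I r // dg t = (j : ℕ)}) (h : m + (dg t.1 : ℤ) = m + (j : ℤ)),
          hcast xs M h (v ⟨dg t.1, Nat.lt_succ_of_le (dg_le t.1)⟩
            ((f ⟨dg t.1, Nat.lt_succ_of_le (dg_le t.1)⟩).symm ⟨t.1, rfl⟩)) = v j ((f j).symm t) := by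
        rintro ⟨j, hj⟩ ⟨t, ht⟩
        change dg t = j at ht
        subst ht
        intro h
        rfl
      exact (key j (f j i) _).trans (by rw [Equiv.symm_apply_apply])
  exact ⟨(HomologicalComplex.homologyFunctor _ _ m).mapIso
    (((MonoidalCategory.tensorRight M).mapHomologicalComplex (ComplexShape.up ℤ)).mapIso e) ≪≫
    (e₁.trans (LinearEquiv.ofBijective F hF)).toModuleIso⟩

end Groth.Agent.KoszScale
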