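import Groth.Agent.KoszChiLib.Basic
import Groth.Agent.KoszTenLib.Append
import Mathlib.Data.List.Perm.Basic

/-!
The Koszul complex does not depend on the order of the sequence.
-/

set_option autoImplicit false
universe u

noncomputable section

open CategoryTheory CategoryTheory.Limits HomologicalComplex
open CochainComplex (mappingCone)
open CochainComplex.HomComplex

namespace Groth.Agent.KoszScale

variable {A : Type u} [CommRing A] (C : CochainComplex (ModuleCat.{u} A) ℤ)

/-- Exchanging the two directions of a double cone. -/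
def swapF (a b : A) (n : ℤ) :
    (mappingCone (b • 𝟙 (mappingCone (a • 𝟙 C)))).X n ⟶ (mappingCone (a • 𝟙 (mappingCone (b • 𝟙 C)))).X n :=
  (mappingCone.fst (b • 𝟙 (mappingCone (a • 𝟙 C)))).1.v n (n + 1) rfl ≫
      (-((mappingCone.fst (a • 𝟙 C)).1.v (n + 1) (n + 1 + 1) rfl ≫
          (mappingCone.inl (b • 𝟙 C)).v (n + 1 + 1) (n + 1) (by omega) ≫
            (mappingCone.inl (a • 𝟙 (mappingCone (b • 𝟙 C)))).v (n + 1) n (by omega)) +
        (mappingCone.snd (a • 𝟙 C)).v (n + 1) (n + 1) (add_zero _) ≫
          (mappingCone.inl (b • 𝟙 C)).v (n + 1) n (by omega) ≫ (mappingCone.inr (a • 𝟙 (mappingCone (b • 𝟙 C)))).f n) +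
    (mappingCone.snd (b • 𝟙 (mappingCone (a • 𝟙 C)))).v n n (add_zero _) ≫
      ((mappingCone.fst (a • 𝟙 C)).1.v n (n + 1) rfl ≫ (mappingCone.inr (b • 𝟙 C)).f (n + 1) ≫
          (mappingCone.inl (a • 𝟙 (mappingCone (b • 𝟙 C)))).v (n + 1) n (by omega) +
        (mappingCone.snd (a • 𝟙 C)).v n n (add_zero _) ≫
          (mappingCone.inr (b • 𝟙 C)).f n ≫ (mappingCone.inr (a • 𝟙 (mappingCone (b • 𝟙 C)))).f n)

theorem swapF_swapF (a b : A) (n : ℤ) : swapF C a b n ≫ swapF C b a n = 𝟙 _ := by
  apply mappingCone.ext_from _ (n + 1) n rfl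
  · apply mappingCone.ext_from _ (n + 1 + 1) (n + 1) rfl <;> simp [swapF]
  · apply mappingCone.ext_from _ (n + 1) n rfl <;> simp [swapF]

/-- The double cones agree. -/
def swapIso (a b : A) :
    mappingCone (b • 𝟙 (mappingCone (a • 𝟙 C))) ≅ mappingCone (a • 𝟙 (mappingCone (b • 𝟙 C))) :=
  HomologicalComplex.Hom.isoOfComponents
    (fun n => ⟨swapF C a b n, swapF C b a n, swapF_swapF C a b n, swapF_swapF C b a n⟩)
    (fun i j hij => by
      obtain rfl : i + 1 = j := hij
      apply mappingCone.ext_from _ (i + 1) i rfl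
      · apply mappingCone.ext_from _ (i + 1 + 1) (i + 1) rfl
        · simp [swapF, mappingCone.inl_v_d_assoc _ (i + 1) i (i + 1 + 1) (by omega) (by omega),
            mappingCone.inl_v_d_assoc _ (i + 1 + 1) (i + 1) (i + 1 + 1 + 1) (by omega) (by omega),
            mappingCone.inl_v_d _ (i + 1) i (i + 1 + 1) (by omega) (by omega),
            mappingCone.inl_v_d _ (i + 1 + 1) (i + 1) (i + 1 + 1 + 1) (by omega) (by omega), smul_sub, smul_add]
          abel
        · simp [swapF, mappingCone.inl_v_d_assoc _ (i + 1) i (i + 1 + 1) (by omega) (by omega),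
            mappingCone.inl_v_d _ (i + 1) i (i + 1 + 1) (by omega) (by omega), smul_sub, smul_add]
          abel
      · apply mappingCone.ext_from _ (i + 1) i rfl
        · simp [swapF, mappingCone.inl_v_d_assoc _ (i + 1) i (i + 1 + 1) (by omega) (by omega),
            mappingCone.inl_v_d _ (i + 1) i (i + 1 + 1) (by omega) (by omega), smul_sub, smul_add]
          abel
        · simp [swapF])

theorem nonempty_perm {l l' : List A} (h : l.Perm l') :
    Nonempty (Koszul.koszul A l ≅ Koszul.koszul A l') := by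
  induction h with
  | nil => exact ⟨Iso.refl _⟩
  | cons x _ ih => exact ih.map fun e => KoszTenLib.coneMapIso e x
  | swap x y l => exact ⟨swapIso _ x y⟩
  | trans _ _ ih ih' => exact ih.elim fun e => ih'.map fun e' => e ≪≫ e'

end Groth.Agent.KoszScale
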