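import Groth.Agent.KoszChiLib.Basic
import Groth.Agent.KoszTenLib.Append
import Mathlib.Algebra.Homology.ShortComplex.ModuleCat
import Mathlib.RingTheory.Flat.TorsionFree

/-!
The Koszul complex of a sequence multiplied by a scalar.
-/

set_option autoImplicit false
universe u

noncomputable section

open CategoryTheory CategoryTheory.Limits HomologicalComplex
open CochainComplex (mappingCone)
open CochainComplex.HomComplex

namespace Groth.Agent.KoszScale

variable {A : Type u} [CommRing A]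

/-- `L` is `K` with all differentials multiplied by `x`. -/
def Scaled (x : A) (L K : CochainComplex (ModuleCat.{u} A) ℤ) : Prop :=
  ∃ e : ∀ n, L.X n ≅ K.X n, ∀ i, L.d i (i + 1) ≫ (e (i + 1)).hom = x • ((e i).hom ≫ K.d i (i + 1))

theorem scaled_cone {x : A} {L K : CochainComplex (ModuleCat.{u} A) ℤ} (h : Scaled x L K) (f : A) :
    Scaled x (mappingCone ((x * f) • 𝟙 L)) (mappingCone (f • 𝟙 K)) := by
  obtain ⟨e, he⟩ := h
  refine ⟨fun n =>
    { hom := (mappingCone.fst ((x * f) • 𝟙 L)).1.v n (n + 1) rfl ≫ (e (n + 1)).hom ≫ (mappingCone.inl (f • 𝟙 K)).v (n + 1) n (by omega) +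
          (mappingCone.snd ((x * f) • 𝟙 L)).v n n (add_zero n) ≫ (e n).hom ≫ (mappingCone.inr (f • 𝟙 K)).f n
      inv := (mappingCone.fst (f • 𝟙 K)).1.v n (n + 1) rfl ≫ (e (n + 1)).inv ≫ (mappingCone.inl ((x * f) • 𝟙 L)).v (n + 1) n (by omega) +
          (mappingCone.snd (f • 𝟙 K)).v n n (add_zero n) ≫ (e n).inv ≫ (mappingCone.inr ((x * f) • 𝟙 L)).f n
      hom_inv_id := by
        apply mappingCone.ext_from _ (n + 1) n rfl
        · simp
        · simp
      inv_hom_id := by
        apply mappingCone.ext_from _ (n + 1) n rfl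
        · simp
        · simp }, fun i => ?_⟩
  apply mappingCone.ext_from _ (i + 1) i rfl
  · have h1 := he (i + 1)
    simp only [← Category.assoc]
    rw [mappingCone.inl_v_d ((x * f) • 𝟙 L) (i + 1) i (i + 1 + 1) (by omega) (by omega)]
    simp [reassoc_of% h1, smul_sub, smul_smul, mappingCone.inl_v_d (f • 𝟙 K) (i + 1) i (i + 1 + 1) (by omega) (by omega)]
    abel
  · have h1 := he i
    simp [reassoc_of% h1]

theorem exists_scaled (x : A) : ∀ l : List A,
    Scaled x (Koszul.koszul A (l.map fun f => x * f)) (Koszul.koszul A l)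
  | [] => by
    refine ⟨fun n => Iso.refl _, fun i => ?_⟩
    show (Koszul.koszul A ([] : List A)).d i (i + 1) ≫ 𝟙 _ = x • (𝟙 _ ≫ (Koszul.koszul A ([] : List A)).d i (i + 1))
    rw [show (Koszul.koszul A ([] : List A)).d i (i + 1) = 0 from rfl]
    simp
  | f :: l => scaled_cone (exists_scaled x l) f

/-- Cocycles are unchanged and coboundaries are multiplied by `x`. -/
theorem homology_scale_iso (x : A) (hx : x ∈ nonZeroDivisors A) (l : List A) (q : ℤ) :
    Nonempty ((Koszul.koszul A (l.map fun f => x * f)).homology q ≅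
      ModuleCat.of A (↥(LinearMap.ker ((Koszul.koszul A l).d q (q + 1)).hom) ⧸
        Submodule.comap (LinearMap.ker ((Koszul.koszul A l).d q (q + 1)).hom).subtype
          (Ideal.span {x} • LinearMap.range ((Koszul.koszul A l).d (q - 1) q).hom))) := by
  suffices key : ∀ (L K : CochainComplex (ModuleCat.{u} A) ℤ), Scaled x L K → Module.Flat A (K.X (q + 1)) →
      Nonempty (L.homology q ≅ ModuleCat.of A (↥(LinearMap.ker (K.d q (q + 1)).hom) ⧸
        Submodule.comap (LinearMap.ker (K.d q (q + 1)).hom).subtype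
          (Ideal.span {x} • LinearMap.range (K.d (q - 1) q).hom))) from
    key _ _ (exists_scaled x l) (KoszChiLib.flat_X l (q + 1))
  rintro L K ⟨e, he⟩ hflat
  refine ⟨L.homologyIsoSc' (q - 1) q (q + 1) (CochainComplex.prev ℤ q) (CochainComplex.next ℤ q) ≪≫
    (L.sc' (q - 1) q (q + 1)).moduleCatHomologyIso ≪≫ ?_⟩
  have hinj : IsSMulRegular (K.X (q + 1)) x := Module.Flat.isSMulRegular_of_nonZeroDivisors hx
  let ε : ∀ n, L.X n ≃ₗ[A] K.X n := fun n => (e n).toLinearEquiv
  have hε : ∀ (i : ℤ) (z : L.X i), ε (i + 1) ((L.d i (i + 1)).hom z) = x • (K.d i (i + 1)).hom (ε i z) :=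
    fun i z => congrArg (fun φ => φ.hom z) (he i)
  have hε' : ∀ (w : L.X (q - 1)), ε q ((L.d (q - 1) q).hom w) = x • (K.d (q - 1) q).hom (ε (q - 1) w) := by
    have h := hε (q - 1)
    rw [sub_add_cancel] at h
    exact h
  have hker : (LinearMap.ker (L.d q (q + 1)).hom).map (ε q).toLinearMap = LinearMap.ker (K.d q (q + 1)).hom := by
    ext z
    constructor
    · rintro ⟨w, hw, rfl⟩
      refine hinj ?_
      show x • (K.d q (q + 1)).hom (ε q w) = x • (0 : K.X (q + 1))
      rw [← hε, LinearMap.mem_ker.1 hw, map_zero, smul_zero]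
    · intro hz
      refine ⟨(ε q).symm z, (ε (q + 1)).injective ?_, (ε q).apply_symm_apply z⟩
      rw [hε, LinearEquiv.apply_symm_apply, LinearMap.mem_ker.1 hz, smul_zero, map_zero]
  refine (Submodule.Quotient.equiv _ _ ((ε q).ofSubmodules _ _ hker) ?_).toModuleIso
  ext z
  simp only [Submodule.mem_map, LinearMap.mem_range, Submodule.mem_comap, Submodule.coe_subtype]
  rw [Submodule.ideal_span_singleton_smul, Submodule.mem_smul_pointwise_iff_exists]
  constructor
  · rintro ⟨y, ⟨w, rfl⟩, rfl⟩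
    exact ⟨_, ⟨ε (q - 1) w, rfl⟩, (hε' w).symm⟩
  · rintro ⟨_, ⟨w, rfl⟩, hw⟩
    refine ⟨_, ⟨(ε (q - 1)).symm w, rfl⟩, Subtype.ext ?_⟩
    show ε q ((L.d (q - 1) q).hom ((ε (q - 1)).symm w)) = z
    rw [hε', LinearEquiv.apply_symm_apply]
    exact hw

end Groth.Agent.KoszScale
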